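import Mathlib.RingTheory.UniqueFactorizationDomain.Basic
import Mathlib.RingTheory.DiscreteValuationRing.TFAE
import Mathlib.RingTheory.Localization.AtPrime.Basic
import Mathlib.RingTheory.Length
import Mathlib.Algebra.BigOperators.Group.Finset.Basic

/-!
Elementary algebra for decomposing a principal ideal into powers of principal primes.
-/

set_option autoImplicit false
set_option linter.style.haveILetI false
universe u v

namespace Groth.L05.FibreDecomp

open Finset

/-- An element all of whose prime divisors are among the `p i` is a product of powers of them. -/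
theorem exists_associated_prod_pow {S : Type u} [CommRing S] [IsDomain S] [UniqueFactorizationMonoid S]
    {ι : Type v} (s : Finset ι) (p : ι → S) (x : S) (hx : x ≠ 0)
    (hall : ∀ q, Prime q → q ∣ x → ∃ i ∈ s, Associated q (p i)) :
    ∃ a : ι → ℕ, Associated x (∏ i ∈ s, p i ^ a i) := by
  classical
  induction x using UniqueFactorizationMonoid.induction_on_prime with
  | h₁ => exact absurd rfl hx
  | h₂ x hu => exact ⟨0, by simpa using associated_one_iff_isUnit.2 hu⟩
  | h₃ y q hy hq ih =>
    obtain ⟨a, ha⟩ := ih hy fun q' hq' h => hall q' hq' (h.mul_left q)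
    obtain ⟨i, hi, hqi⟩ := hall q hq (dvd_mul_right q y)
    refine ⟨a + Pi.single i 1, (hqi.mul_mul ha).trans (Associated.of_eq ?_)⟩
    simp only [Pi.add_apply, pow_add, Finset.prod_mul_distrib]
    rw [mul_comm]
    congr 1
    rw [Finset.prod_eq_single_of_mem i hi fun j _ hj => by simp [Pi.single_eq_of_ne hj]]
    simp

/-- In a one-dimensional local domain with principal maximal ideal `(t)`, the colength of `(t ^ n)` is `n`. -/
theorem length_quotient_span_pow {L : Type u} [CommRing L] [IsDomain L] [IsLocalRing L]
    [IsNoetherianRing L] {t : L} (ht : IsLocalRing.maximalIdeal L = Ideal.span {t}) (ht0 : t ≠ 0)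
    (n : ℕ) : Module.length L (L ⧸ Ideal.span {t ^ n}) = n := by
  have hF : ¬ IsField L := fun h => ht0 (by
    have := (IsLocalRing.isField_iff_maximalIdeal_eq.1 h)
    rw [ht, Ideal.span_singleton_eq_bot] at this
    exact this)
  haveI : IsDiscreteValuationRing L :=
    ((IsDiscreteValuationRing.TFAE L hF).out 4 0 : (IsLocalRing.maximalIdeal L).IsPrincipal ↔
      IsDiscreteValuationRing L).1 ⟨t, ht⟩
  rw [← Ideal.span_singleton_pow, ← ht, IsDiscreteValuationRing.length_quotient_pow_maximalIdeal]

/-- Two ideals which agree in every localisation at a maximal ideal agree. -/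
theorem le_of_forall_exists_mul_mem {A : Type u} [CommRing A] {I J : Ideal A}
    (h : ∀ M : Ideal A, M.IsMaximal → ∀ y ∈ J, ∃ s ∉ M, s * y ∈ I) : J ≤ I := by
  intro y hy
  by_contra hne
  let K : Ideal A := I.colon {y}
  have hK : K ≠ ⊤ := fun e => hne (by
    have h1 : (1 : A) ∈ K := e ▸ Submodule.mem_top
    simpa [K, Submodule.mem_colon_singleton] using h1)
  obtain ⟨M, hM, hle⟩ := Ideal.exists_le_maximal K hK
  obtain ⟨s, hs, hsy⟩ := h M hM y hy
  exact hs (hle (by simpa [K, Submodule.mem_colon_singleton] using hsy))

end Groth.L05.FibreDecomp
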