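import Groth.Prelude.Def_ModelsG
import Groth.Agent.L05.FibreDecomp.Alg
import Groth.Agent.L20.AffBlow
import Groth.Agent.L22.Div.Stalk
import Groth.Agent.L10.RegularUFD
import Groth.Agent.S1684
import Mathlib.AlgebraicGeometry.Morphisms.Flat

/-!
The special fibre of a regular model as a sum of its components with multiplicities.
-/

set_option autoImplicit false
set_option linter.style.haveILetI false
universe u

open CategoryTheory CategoryTheory.Limits AlgebraicGeometry TopologicalSpace Opposite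
open Groth.L22

namespace Groth.L05.FibreDecomp

section General

variable {X : Scheme.{u}} (I : X.IdealSheafData) (U : X.affineOpens) (x : X) (hx : x ∈ U.1)

theorem stalkIdeal_eq_top (h : x ∉ (I.support : Set X)) : Div.stalkIdeal I U x hx = ⊤ := by
  rw [CartierDecomp.mem_support_iff hx, SetLike.not_le_iff_exists] at h
  obtain ⟨y, hy, hy'⟩ := h
  exact Ideal.eq_top_of_isUnit_mem _ (Ideal.mem_map_of_mem _ hy)
    ((X.mem_basicOpen y x hx).1 ((LocalDim.mem_basicOpen_iff U.2 hx y).2 hy'))

theorem map_stalkSpecializes {y : X} (h : y ⤳ x) :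
    (Div.stalkIdeal I U x hx).map (X.presheaf.stalkSpecializes h).hom =
      Div.stalkIdeal I U y (h.mem_open U.1.2 hx) := by
  unfold Div.stalkIdeal
  rw [Ideal.map_map, ← CommRingCat.hom_comp, TopCat.Presheaf.germ_stalkSpecializes]

theorem stalkIdeal_generic [IsIntegral I.subscheme] (hξ : IsGenericPoint x (I.support : Set X)) :
    Div.stalkIdeal I U x hx = IsLocalRing.maximalIdeal (X.presheaf.stalk x) := by
  letI : Algebra Γ(X, U.1) (X.presheaf.stalk x) := (X.presheaf.germ U.1 x hx).hom.toAlgebra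
  haveI : IsLocalization.AtPrime (X.presheaf.stalk x) (U.2.primeIdealOf ⟨x, hx⟩).asIdeal :=
    U.2.isLocalization_stalk ⟨x, hx⟩
  show (I.ideal U).map (algebraMap Γ(X, U.1) (X.presheaf.stalk x)) = _
  rw [← CartierDecomp.primeIdealOf_generic hξ U hx]
  exact IsLocalization.AtPrime.map_eq_maximalIdeal _ _

/-- The stalk ideal of an integral divisor of codimension one is a principal prime in a factorial stalk. -/
theorem exists_prime_generator [IsLocallyNoetherian X] [IsIntegral I.subscheme] {ξ : X}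
    (hξ : IsGenericPoint ξ (I.support : Set X)) (hcodim : ringKrullDim (X.presheaf.stalk ξ) = 1)
    (hmem : x ∈ (I.support : Set X)) [IsDomain (X.presheaf.stalk x)]
    [UniqueFactorizationMonoid (X.presheaf.stalk x)] :
    ∃ p, Prime p ∧ Div.stalkIdeal I U x hx = Ideal.span {p} := by
  have hs := hξ.specializes hmem
  have hξU := hs.mem_open U.1.2 hx
  have hP := CartierDecomp.primeIdealOf_generic hξ U hξU
  have hle := LocalDim.le_of_specializes U.2 hξU hx hs
  letI : Algebra Γ(X, U.1) (X.presheaf.stalk x) := (X.presheaf.germ U.1 x hx).hom.toAlgebra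
  haveI : IsLocalization.AtPrime (X.presheaf.stalk x) (U.2.primeIdealOf ⟨x, hx⟩).asIdeal :=
    U.2.isLocalization_stalk ⟨x, hx⟩
  haveI hp : (I.ideal U).IsPrime := hP ▸ (U.2.primeIdealOf _).2
  have hd : Disjoint ((U.2.primeIdealOf ⟨x, hx⟩).asIdeal.primeCompl : Set Γ(X, U.1)) (I.ideal U) := by
    rw [Set.disjoint_left]
    exact fun c hc hc' => hc (hle (hP ▸ hc'))
  have hprime : (Div.stalkIdeal I U x hx).IsPrime :=
    IsLocalization.isPrime_of_isPrime_disjoint _ _ _ hp hd
  have hh : (Div.stalkIdeal I U x hx).height = 1 := by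
    show ((I.ideal U).map (algebraMap Γ(X, U.1) (X.presheaf.stalk x))).height = 1
    rw [IsLocalization.height_map_of_disjoint _ _ hd, ← hP]
    have h := LocalDim.dim_stalk_eq_height U.2 hξU
    rw [hcodim] at h
    exact_mod_cast h.symm
  haveI := hprime
  obtain ⟨p, hp⟩ := UniqueFactorizationMonoid.isPrincipal_of_height_eq_one hh
  have hp0 : p ≠ 0 := fun h0 => by
    rw [hp, h0] at hh
    simp at hh
  refine ⟨p, ?_, hp⟩
  rw [← Ideal.span_singleton_prime hp0]
  rw [hp] at hprime
  exact hprime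

/-- A prime of the stalk at `x` is the prime of a generization of `x`. -/
theorem exists_generization (q : Ideal (X.presheaf.stalk x)) [hq : q.IsPrime] :
    ∃ y : X, y ⤳ x ∧ ∀ J : X.IdealSheafData,
      (y ∈ (J.support : Set X) ↔ Div.stalkIdeal J U x hx ≤ q) := by
  letI : Algebra Γ(X, U.1) (X.presheaf.stalk x) := (X.presheaf.germ U.1 x hx).hom.toAlgebra
  haveI : IsLocalization.AtPrime (X.presheaf.stalk x) (U.2.primeIdealOf ⟨x, hx⟩).asIdeal :=
    U.2.isLocalization_stalk ⟨x, hx⟩
  let P : Spec Γ(X, U.1) := ⟨q.comap (algebraMap Γ(X, U.1) (X.presheaf.stalk x)), inferInstance⟩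
  have hle : P.asIdeal ≤ (U.2.primeIdealOf ⟨x, hx⟩).asIdeal := fun a ha => by
    by_contra h
    exact hq.ne_top (Ideal.eq_top_of_isUnit_mem _ ha
      (IsLocalization.map_units (X.presheaf.stalk x)
        (⟨a, h⟩ : (U.2.primeIdealOf ⟨x, hx⟩).asIdeal.primeCompl)))
  refine ⟨U.2.fromSpec P, ?_, fun J => ?_⟩
  · conv_rhs => rw [← LocalDim.fromSpec_prime U.2 hx]
    exact LocalDim.fromSpec_specializes U.2 hle
  · rw [CartierDecomp.mem_support_iff (LocalDim.fromSpec_mem U.2 P), LocalDim.primeIdealOf_fromSpec]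
    exact Ideal.map_le_iff_le_comap.symm

theorem ideal_prod {ι : Type*} (s : Finset ι) (J : ι → X.IdealSheafData) :
    (∏ i ∈ s, J i).ideal U = ∏ i ∈ s, (J i).ideal U := by
  classical
  induction s using Finset.induction_on with
  | empty => simp
  | insert a t ha ih => rw [Finset.prod_insert ha, Finset.prod_insert ha, ← ih]; simp

theorem ext_of_stalkIdeal {J : X.IdealSheafData}
    (h : ∀ (V : X.affineOpens) (y : X) (hy : y ∈ V.1), Div.stalkIdeal I V y hy = Div.stalkIdeal J V y hy) :
    I = J := by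
  suffices key : ∀ (J₁ J₂ : X.IdealSheafData), (∀ (V : X.affineOpens) (y : X) (hy : y ∈ V.1),
      Div.stalkIdeal J₁ V y hy = Div.stalkIdeal J₂ V y hy) → J₁ ≤ J₂ from
    le_antisymm (key I J h) (key J I fun V y hy => (h V y hy).symm)
  intro J₁ J₂ h V
  refine le_of_forall_exists_mul_mem fun M hM a ha => ?_
  let P : Spec Γ(X, V.1) := ⟨M, hM.isPrime⟩
  have hy : V.2.fromSpec P ∈ V.1 := LocalDim.fromSpec_mem V.2 P
  letI : Algebra Γ(X, V.1) (X.presheaf.stalk (V.2.fromSpec P)) :=
    (X.presheaf.germ V.1 _ hy).hom.toAlgebra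
  haveI : IsLocalization.AtPrime (X.presheaf.stalk (V.2.fromSpec P))
      (V.2.primeIdealOf ⟨_, hy⟩).asIdeal := V.2.isLocalization_stalk ⟨_, hy⟩
  obtain ⟨s, hs, hsa⟩ := (IsLocalization.algebraMap_mem_map_algebraMap_iff
    (V.2.primeIdealOf ⟨_, hy⟩).asIdeal.primeCompl _ _ _).1
    ((h V _ hy).le (Ideal.mem_map_of_mem _ ha))
  refine ⟨s, ?_, hsa⟩
  rw [LocalDim.primeIdealOf_fromSpec] at hs
  exact hs

end General

section Fibre

variable {R : Type u} [CommRing R] [IsDomain R] [IsDiscreteValuationRing R]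
  {X : Over (Spec (CommRingCat.of R))}

/-- The structure map into the sections over an open. -/
noncomputable def res (U : X.left.affineOpens) : R →+* Γ(X.left, U.1) :=
  (X.left.presheaf.map (homOfLE (le_top : U.1 ≤ ⊤)).op).hom.comp (Coh.toGlobal X.hom)

theorem germ_res (U : X.left.affineOpens) (x : X.left) (hx : x ∈ U.1) (a : R) :
    (X.left.presheaf.germ U.1 x hx).hom (res U a) = Models.stalkHom R X x a :=
  X.left.presheaf.germ_res_apply (homOfLE (le_top : U.1 ≤ ⊤)) x hx _

theorem ideal_specialFibreIdeal (U : X.left.affineOpens) :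
    (Models.specialFibreIdeal R X).ideal U = (IsLocalRing.maximalIdeal R).map (res U) :=
  Groth.L20.AffBlow.ideal_comap_idealSheaf X.hom _ U

theorem stalkIdeal_specialFibreIdeal (U : X.left.affineOpens) (x : X.left) (hx : x ∈ U.1) :
    Div.stalkIdeal (Models.specialFibreIdeal R X) U x hx =
      (IsLocalRing.maximalIdeal R).map (Models.stalkHom R X x) := by
  rw [Div.stalkIdeal, ideal_specialFibreIdeal, Ideal.map_map]
  exact congrArg (fun χ => Ideal.map χ _) (RingHom.ext (germ_res U x hx))

theorem mem_specialFibreSet {x : X.left} :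
    x ∈ Models.specialFibreSet R X ↔
      ∀ a ∈ IsLocalRing.maximalIdeal R, ¬ IsUnit (Models.stalkHom R X x a) := by
  have key : ∀ a : R, a ∉ (X.hom.base x).asIdeal ↔ IsUnit (Models.stalkHom R X x a) := fun a => by
    rw [← PrimeSpectrum.mem_basicOpen]
    have h : X.hom ⁻¹ᵁ (Spec (CommRingCat.of R)).basicOpen
        ((Scheme.ΓSpecIso (CommRingCat.of R)).inv a) = X.left.basicOpen (Coh.toGlobal X.hom a) :=
      Scheme.preimage_basicOpen_top _ _
    rw [basicOpen_eq_of_affine] at h
    have h' := SetLike.ext_iff.1 h x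
    rw [Scheme.mem_basicOpen_top] at h'
    exact h'
  constructor
  · intro h a ha hu
    have hx : X.hom.base x = IsLocalRing.closedPoint R := h
    exact (key a).2 hu (by rw [hx]; exact ha)
  · intro h
    show X.hom.base x = IsLocalRing.closedPoint R
    refine PrimeSpectrum.ext (le_antisymm (IsLocalRing.le_maximalIdeal (X.hom.base x).2.ne_top) ?_)
    intro a ha
    by_contra hne
    exact h a ha ((key a).1 hne)

theorem support_specialFibreIdeal :
    ((Models.specialFibreIdeal R X).support : Set X.left) = Models.specialFibreSet R X := by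
  ext x
  obtain ⟨_, ⟨W, hW, rfl⟩, hxW, -⟩ :=
    X.left.isBasis_affineOpens.exists_subset_of_mem_open (Set.mem_univ x) isOpen_univ
  rw [CartierDecomp.mem_support_iff (U := ⟨W, hW⟩) hxW, ideal_specialFibreIdeal, Ideal.map_le_iff_le_comap,
    mem_specialFibreSet]
  refine forall₂_congr fun a _ => ?_
  rw [← germ_res ⟨W, hW⟩ x hxW a, ← Scheme.mem_basicOpen]
  exact ⟨fun h h' => (LocalDim.mem_basicOpen_iff hW hxW _).1 h' h, fun h => by_contra fun h' =>
    h ((LocalDim.mem_basicOpen_iff hW hxW _).2 h')⟩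

theorem stalkHom_ne_zero [Flat X.hom] (x : X.left) {a : R} (ha : a ≠ 0) :
    Models.stalkHom R X x a ≠ 0 := by
  obtain ⟨_, ⟨W, hW, rfl⟩, hxW, -⟩ :=
    X.left.isBasis_affineOpens.exists_subset_of_mem_open (Set.mem_univ x) isOpen_univ
  let U : X.left.affineOpens := ⟨W, hW⟩
  have hres : (res U).Flat := by
    have h := X.hom.flat_appLE (isAffineOpen_top _) U.2 (fun _ _ => trivial)
    have h2 := RingHom.Flat.comp (RingHom.Flat.of_bijective
      (f := (Scheme.ΓSpecIso (CommRingCat.of R)).inv.hom)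
      (Scheme.ΓSpecIso (CommRingCat.of R)).symm.commRingCatIsoToRingEquiv.bijective) h
    rw [Scheme.Hom.appLE, CommRingCat.hom_comp, RingHom.comp_assoc] at h2
    exact h2
  letI : Algebra R Γ(X.left, U.1) := (res U).toAlgebra
  haveI : Module.Flat R Γ(X.left, U.1) := hres
  letI : Algebra Γ(X.left, U.1) (X.left.presheaf.stalk x) := (X.left.presheaf.germ U.1 x hxW).hom.toAlgebra
  haveI : IsLocalization.AtPrime (X.left.presheaf.stalk x) (U.2.primeIdealOf ⟨x, hxW⟩).asIdeal :=
    U.2.isLocalization_stalk ⟨x, hxW⟩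
  intro h0
  rw [← germ_res U x hxW] at h0
  obtain ⟨⟨s, hs⟩, hs0⟩ := (IsLocalization.map_eq_zero_iff
    (U.2.primeIdealOf ⟨x, hxW⟩).asIdeal.primeCompl (X.left.presheaf.stalk x) (res U a)).1 h0
  have hreg : IsSMulRegular Γ(X.left, U.1) a :=
    Module.Flat.isSMulRegular_of_nonZeroDivisors (mem_nonZeroDivisors_of_ne_zero ha)
  have : s = 0 := hreg (by
    show a • s = a • (0 : Γ(X.left, U.1))
    rw [smul_zero, Algebra.smul_def, mul_comm]
    exact hs0)
  exact hs (this ▸ zero_mem _)

theorem exists_component {n : ℕ} {Γ : Fin n → ArSurf.VertComp R X}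
    (hΓ : Models.IsComponentList R X Γ) {x : X.left} (hx : x ∈ Models.specialFibreSet R X) :
    ∃ i, x ∈ Set.range ((Γ i).ι.base : (Γ i).curve.left → X.left) := by
  let T : Set X.left := Models.specialFibreSet R X
  let Z : Set T := irreducibleComponent (⟨x, hx⟩ : T)
  have hZ : Subtype.val '' Z ∈ Models.fibreComponents R X := by
    refine ⟨⟨isIrreducible_irreducibleComponent.image _ continuous_subtype_val.continuousOn,
      Set.image_subset_iff.2 fun t _ => t.2⟩, fun S hS hle => ?_⟩
    have hpre : IsPreirreducible ((Subtype.val : T → X.left) ⁻¹' S) := by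
      intro u v hu hv
      rintro ⟨a, haS, hau⟩ ⟨b, hbS, hbv⟩
      obtain ⟨u', hu', rfl⟩ := isOpen_induced_iff.1 hu
      obtain ⟨v', hv', rfl⟩ := isOpen_induced_iff.1 hv
      obtain ⟨c, hcS, hcu, hcv⟩ := hS.1.2 u' v' hu' hv' ⟨a.1, haS, hau⟩ ⟨b.1, hbS, hbv⟩
      exact ⟨⟨c, hS.2 hcS⟩, hcS, hcu, hcv⟩
    have he : Subtype.val ⁻¹' S = Z := eq_irreducibleComponent hpre fun t ht => hle ⟨t, ht, rfl⟩
    intro c hc
    exact ⟨⟨c, hS.2 hc⟩, he ▸ hc, rfl⟩
  rw [← hΓ.2] at hZ
  obtain ⟨i, hi⟩ := hZ
  refine ⟨i, ?_⟩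
  dsimp only at hi
  rw [hi]
  exact ⟨⟨x, hx⟩, mem_irreducibleComponent, rfl⟩

theorem support_ker (Γ : ArSurf.VertComp R X) :
    ((Γ.ι.ker).support : Set X.left) = Set.range (Γ.ι.base : Γ.curve.left → X.left) := by
  rw [Scheme.Hom.support_ker]
  exact Γ.ι.isClosedEmbedding.isClosed_range.closure_eq

theorem isGenericPoint_genPtOf (Γ : ArSurf.VertComp R X) :
    IsGenericPoint (Models.genPtOf R X Γ) ((Γ.ι.ker).support : Set X.left) := by
  have h := (genericPoint_spec Γ.curve.left).image Γ.ι.continuous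
  rwa [Set.image_univ, Γ.ι.isClosedEmbedding.isClosed_range.closure_eq, ← support_ker] at h

theorem isIntegral_subscheme_ker (Γ : ArSurf.VertComp R X) : IsIntegral Γ.ι.ker.subscheme := by
  haveI : Nonempty Γ.ι.image := ⟨Γ.ι.toImage (genericPoint Γ.curve.left)⟩
  exact isIntegral_of_isOpenImmersion (inv Γ.ι.toImage)

variable {n : ℕ} {Γ : Fin n → ArSurf.VertComp R X}

theorem eq_genPtOf_of_specializes (hΓ : Models.IsComponentList R X Γ) (i : Fin n) {y : X.left}
    (hy : y ∈ Models.specialFibreSet R X) (hys : y ⤳ Models.genPtOf R X (Γ i)) :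
    y = Models.genPtOf R X (Γ i) := by
  have hξ := isGenericPoint_genPtOf (Γ i)
  rw [support_ker] at hξ
  have hmax : Set.range ((Γ i).ι.base : (Γ i).curve.left → X.left) ∈ Models.fibreComponents R X :=
    hΓ.2 ▸ ⟨i, rfl⟩
  have hsub : Set.range ((Γ i).ι.base : (Γ i).curve.left → X.left) ⊆ closure {y} := by
    rw [← hξ.def]
    exact closure_minimal (Set.singleton_subset_iff.2 (specializes_iff_mem_closure.1 hys)) isClosed_closure
  have hle := hmax.2 (y := closure {y}) ⟨isIrreducible_singleton.closure,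
    closure_minimal (Set.singleton_subset_iff.2 hy) (Models.isClosed_specialFibreSet R X)⟩ hsub
  exact (hys.antisymm (hξ.specializes (hle (subset_closure rfl)))).eq

theorem eq_of_genPtOf_mem (hΓ : Models.IsComponentList R X Γ) {i j : Fin n}
    (h : Models.genPtOf R X (Γ i) ∈ ((Γ j).ι.ker.support : Set X.left)) : i = j := by
  refine hΓ.1 ?_
  have hi : Set.range ((Γ i).ι.base : (Γ i).curve.left → X.left) ∈ Models.fibreComponents R X :=
    hΓ.2 ▸ ⟨i, rfl⟩
  have hj : Set.range ((Γ j).ι.base : (Γ j).curve.left → X.left) ∈ Models.fibreComponents R X :=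
    hΓ.2 ▸ ⟨j, rfl⟩
  have hξ := isGenericPoint_genPtOf (Γ i)
  rw [support_ker] at hξ h
  have hsub : Set.range ((Γ i).ι.base : (Γ i).curve.left → X.left) ⊆
      Set.range ((Γ j).ι.base : (Γ j).curve.left → X.left) := by
    rw [← hξ.def]
    exact closure_minimal (Set.singleton_subset_iff.2 h) (Γ j).ι.isClosedEmbedding.isClosed_range
  exact hsub.antisymm (hi.2 hj.1 hsub)

theorem dim_genPtOf [IsLocallyNoetherian X.left] [Flat X.hom] (hreg : Models.IsRegularScheme X.left)
    (hΓ : Models.IsComponentList R X Γ) (i : Fin n) :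
    ringKrullDim (X.left.presheaf.stalk (Models.genPtOf R X (Γ i))) = 1 := by
  obtain ⟨ϖ, hϖ⟩ := IsDiscreteValuationRing.exists_irreducible R
  set ξ := Models.genPtOf R X (Γ i)
  have hmem : ξ ∈ Models.specialFibreSet R X := by
    have hi : Set.range ((Γ i).ι.base : (Γ i).curve.left → X.left) ∈ Models.fibreComponents R X :=
      hΓ.2 ▸ ⟨i, rfl⟩
    exact hi.1.2 ⟨_, rfl⟩
  refine le_antisymm (LocalDim.dim_le_one_of_locPrincipal (D := Models.specialFibreIdeal R X)
    (fun x _ => ?_) (by rw [support_specialFibreIdeal]; exact hmem) fun y hy hys =>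
      eq_genPtOf_of_specializes hΓ i (by rw [← support_specialFibreIdeal]; exact hy) hys) ?_
  · obtain ⟨_, ⟨W, hW, rfl⟩, hxW, -⟩ :=
      X.left.isBasis_affineOpens.exists_subset_of_mem_open (Set.mem_univ x) isOpen_univ
    refine ⟨⟨W, hW⟩, hxW, res ⟨W, hW⟩ ϖ, ?_⟩
    rw [ideal_specialFibreIdeal, hϖ.maximalIdeal_eq, Ideal.map_span, Set.image_singleton]
  · haveI := hreg ξ
    haveI := Groth.L01.isDomain_of_regular (X.left.presheaf.stalk ξ)
    by_contra h
    haveI : Ring.KrullDimLE 0 (X.left.presheaf.stalk ξ) := Ring.krullDimLE_iff.2 (by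
      exact_mod_cast ENat.WithBot.lt_add_one_iff.1 (lt_of_lt_of_le (not_le.1 h) (by simp)))
    have hF : IsField (X.left.presheaf.stalk ξ) := Ring.KrullDimLE.isField_of_isDomain
    letI := hF.toField
    exact (mem_specialFibreSet.1 hmem) ϖ (by rw [hϖ.maximalIdeal_eq]; exact Ideal.mem_span_singleton_self ϖ)
      (isUnit_iff_ne_zero.2 (stalkHom_ne_zero ξ hϖ.ne_zero))

theorem isEffCartier [IsLocallyNoetherian X.left] [Flat X.hom] (hreg : Models.IsRegularScheme X.left)
    (hΓ : Models.IsComponentList R X Γ) (i : Fin n) : BlowUp.IsEffCartierIdeal (Γ i).ι.ker := by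
  haveI := isIntegral_subscheme_ker (Γ i)
  refine Groth.Agent.S1684.result X.left _ ?_ fun x _ => ?_
  · have h1 : IsGenericPoint ((Γ i).ι.ker.subschemeι (genericPoint ↥(Γ i).ι.ker.subscheme))
        ((Γ i).ι.ker.support : Set X.left) := by
      have h := (genericPoint_spec (Γ i).ι.ker.subscheme).image (Γ i).ι.ker.subschemeι.continuous
      rwa [Set.image_univ, (Γ i).ι.ker.range_subschemeι, (Γ i).ι.ker.support.isClosed.closure_eq] at h
    rw [h1.eq (isGenericPoint_genPtOf (Γ i))]
    exact dim_genPtOf hreg hΓ i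
  · haveI := hreg x
    exact ⟨Groth.L01.isDomain_of_regular _, Groth.L10.RegUFD.isUFD _⟩

theorem specialFibreIdeal_eq_prod [IsLocallyNoetherian X.left] [Flat X.hom]
    (hreg : Models.IsRegularScheme X.left) (hΓ : Models.IsComponentList R X Γ) :
    Models.specialFibreIdeal R X = ∏ i, (Γ i).ι.ker ^ Models.mult R X (Γ i) := by
  classical
  obtain ⟨ϖ, hϖ⟩ := IsDiscreteValuationRing.exists_irreducible R
  refine ext_of_stalkIdeal _ fun U x hx => ?_
  haveI := hreg x
  haveI := Groth.L01.isDomain_of_regular (X.left.presheaf.stalk x)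
  haveI := Groth.L10.RegUFD.isUFD (X.left.presheaf.stalk x)
  haveI := fun i => isIntegral_subscheme_ker (Γ i)
  let D : Fin n → X.left.IdealSheafData := fun i => (Γ i).ι.ker
  let s : Finset (Fin n) := Finset.univ.filter fun i => x ∈ ((D i).support : Set X.left)
  have hgen : ∀ i ∈ s, ∃ q, Prime q ∧ Div.stalkIdeal (D i) U x hx = Ideal.span {q} := fun i hi =>
    exists_prime_generator (D i) U x hx (isGenericPoint_genPtOf (Γ i)) (dim_genPtOf hreg hΓ i)
      (Finset.mem_filter.1 hi).2
  choose! q hq hqspan using hgen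
  have hπ : Div.stalkIdeal (Models.specialFibreIdeal R X) U x hx =
      Ideal.span {Models.stalkHom R X x ϖ} := by
    rw [stalkIdeal_specialFibreIdeal, hϖ.maximalIdeal_eq, Ideal.map_span, Set.image_singleton]
  have hall : ∀ r, Prime r → r ∣ Models.stalkHom R X x ϖ → ∃ i ∈ s, Associated r (q i) := by
    intro r hr hdvd
    haveI : (Ideal.span {r}).IsPrime := (Ideal.span_singleton_prime hr.ne_zero).2 hr
    obtain ⟨y, hyx, hy⟩ := exists_generization U x hx (Ideal.span {r})
    have hyT : y ∈ Models.specialFibreSet R X := by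
      rw [← support_specialFibreIdeal, hy, hπ, Ideal.span_singleton_le_span_singleton]
      exact hdvd
    obtain ⟨i, hi⟩ := exists_component hΓ hyT
    rw [← support_ker, hy] at hi
    have his : i ∈ s := Finset.mem_filter.2 ⟨Finset.mem_univ i, by
      by_contra hne
      rw [stalkIdeal_eq_top _ U x hx hne, top_le_iff] at hi
      exact (inferInstance : (Ideal.span {r}).IsPrime).ne_top hi⟩
    rw [show Div.stalkIdeal (Γ i).ι.ker U x hx = Ideal.span {q i} from hqspan i his,
      Ideal.span_singleton_le_span_singleton] at hi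
    exact ⟨i, his, hr.associated_of_dvd (hq i his) hi⟩
  obtain ⟨a, ha⟩ := exists_associated_prod_pow s q (Models.stalkHom R X x ϖ)
    (stalkHom_ne_zero x hϖ.ne_zero) hall
  have hmult : ∀ i ∈ s, Models.mult R X (Γ i) = a i := by
    intro i hi
    let ξ := Models.genPtOf R X (Γ i)
    have hs : ξ ⤳ x := (isGenericPoint_genPtOf (Γ i)).specializes (Finset.mem_filter.1 hi).2
    have hξU : ξ ∈ U.1 := hs.mem_open U.1.2 hx
    haveI := hreg ξ
    haveI := Groth.L01.isDomain_of_regular (X.left.presheaf.stalk ξ)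
    let φ := (X.left.presheaf.stalkSpecializes hs).hom
    have hφi : IsLocalRing.maximalIdeal (X.left.presheaf.stalk ξ) = Ideal.span {φ (q i)} := by
      rw [← stalkIdeal_generic (D i) U ξ hξU (isGenericPoint_genPtOf (Γ i)),
        ← map_stalkSpecializes (D i) U x hx hs, hqspan i hi, Ideal.map_span, Set.image_singleton]
    have hne : φ (q i) ≠ 0 := fun h0 => by
      have hF : IsField (X.left.presheaf.stalk ξ) := by
        rw [IsLocalRing.isField_iff_maximalIdeal_eq, hφi, h0, Ideal.span_singleton_eq_bot]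
      have h1 := dim_genPtOf hreg hΓ i
      rw [ringKrullDim_eq_zero_of_isField hF] at h1
      exact zero_ne_one h1
    have hother : ∀ j ∈ s, j ≠ i → IsUnit (φ (q j)) := fun j hj hji => by
      rw [← Ideal.span_singleton_eq_top, ← Set.image_singleton (f := φ), ← Ideal.map_span, ← hqspan j hj,
        map_stalkSpecializes (D j) U x hx hs]
      exact stalkIdeal_eq_top _ U ξ hξU fun h => hji (eq_of_genPtOf_mem hΓ h).symm
    have hspan : (IsLocalRing.maximalIdeal R).map (Models.stalkHom R X ξ) =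
        Ideal.span {φ (q i) ^ a i} := by
      rw [← stalkIdeal_specialFibreIdeal U ξ hξU, ← map_stalkSpecializes _ U x hx hs, hπ,
        Ideal.span_singleton_eq_span_singleton.2 ha, Ideal.map_span, Set.image_singleton, map_prod,
        ← Finset.mul_prod_erase s _ hi, map_pow, Ideal.span_singleton_mul_right_unit]
      exact IsUnit.prod_iff.2 fun j hj => by
        rw [map_pow]
        exact (hother j (Finset.mem_erase.1 hj).2 (Finset.mem_erase.1 hj).1).pow _
    show (Module.length _ (_ ⧸ (IsLocalRing.maximalIdeal R).map (Models.stalkHom R X ξ))).toNat = a i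
    rw [hspan, length_quotient_span_pow hφi hne, ENat.toNat_natCast]
  have hprod : Div.stalkIdeal (∏ i, (Γ i).ι.ker ^ Models.mult R X (Γ i)) U x hx =
      ∏ i, Div.stalkIdeal (D i) U x hx ^ Models.mult R X (Γ i) := by
    rw [Div.stalkIdeal, ideal_prod]
    refine (map_prod (Ideal.mapHom (X.left.presheaf.germ U.1 x hx).hom) _ _).trans
      (Finset.prod_congr rfl fun i _ => ?_)
    show Ideal.map _ _ = _
    rw [Scheme.IdealSheafData.ideal_pow, Pi.pow_apply, Ideal.map_pow]
    rfl
  rw [hπ, hprod, ← Finset.prod_subset (Finset.subset_univ s) fun i _ hi => by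
      rw [stalkIdeal_eq_top _ U x hx fun h => hi (Finset.mem_filter.2 ⟨Finset.mem_univ i, h⟩),
        ← Ideal.one_eq_top, one_pow],
    Ideal.span_singleton_eq_span_singleton.2 ha, ← Ideal.prod_span_singleton]
  refine Finset.prod_congr rfl fun i hi => ?_
  rw [hqspan i hi, Ideal.span_singleton_pow, hmult i hi]

end Fibre

end Groth.L05.FibreDecomp
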